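import Mathlib

/-!
# Normal local unramified algebras over valuation rings are weakly unramified valuation rings
-/

set_option autoImplicit false
set_option linter.style.haveILetI false
universe u

open Polynomial

namespace Groth.Agent.ValEtaleLib

/-- If `x` satisfies a polynomial over an integrally closed `C ⊆ L` with a coefficient outside the
prime `q`, then `x` or `x⁻¹` lies in `C_q`. -/
theorem exists_frac_of_poly {C L : Type u} [CommRing C] [Field L] [Algebra C L]
    (hIC : ∀ z : L, IsIntegral C z → z ∈ (algebraMap C L).range) (q : Ideal C) [q.IsPrime] (x : L) :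
    ∀ (n : ℕ) (P : C[X]), P.natDegree ≤ n → aeval x P = 0 → (∃ i, P.coeff i ∉ q) →
      (∀ c, algebraMap C L c = 0 → c ∈ q) →
      ∃ c s : C, s ∉ q ∧ (x * algebraMap C L s = algebraMap C L c ∨ algebraMap C L c * x = algebraMap C L s) := by
  classical
  intro n
  induction n with
  | zero =>
    intro P hP h0 ⟨i, hi⟩ hker
    exfalso
    have hi0 : i = 0 := by
      by_contra hne
      exact hi (by rw [Polynomial.coeff_eq_zero_of_natDegree_lt (by omega)]; exact zero_mem _)
    subst hi0
    rw [Polynomial.eq_C_of_natDegree_le_zero hP, aeval_C] at h0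
    exact hi (hker _ h0)
  | succ n ih =>
    intro P hP h0 hex hker
    rcases Nat.lt_or_ge P.natDegree (n + 1) with hlt | hge
    · exact ih P (by omega) h0 hex hker
    have hdeg : P.natDegree = n + 1 := le_antisymm hP hge
    let a := P.coeff (n + 1)
    have hlead : P.leadingCoeff = a := by rw [Polynomial.leadingCoeff, hdeg]
    obtain ⟨b, hb⟩ := hIC _ (isIntegral_leadingCoeff_smul P x h0)
    rw [hlead, Algebra.smul_def] at hb
    by_cases haq : a ∈ q
    · by_cases hbq : b ∈ q
      · -- lower the degree
        let P' := P - Polynomial.C a * X ^ (n + 1) + Polynomial.C b * X ^ n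
        refine ih P' ?_ ?_ ?_ hker
        · rw [Polynomial.natDegree_le_iff_coeff_eq_zero]
          intro N hN
          simp only [P', coeff_add, coeff_sub, coeff_C_mul, coeff_X_pow]
          rcases eq_or_ne N (n + 1) with rfl | hne
          · simp [a]
          · rw [Polynomial.coeff_eq_zero_of_natDegree_lt (by omega), if_neg hne, if_neg (by omega)]
            simp
        · simp only [P', map_add, map_sub, map_mul, aeval_C, map_pow, aeval_X, h0, hb]
          ring
        · obtain ⟨i, hi⟩ := hex
          refine ⟨i, ?_⟩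
          simp only [P', coeff_add, coeff_sub, coeff_C_mul, coeff_X_pow]
          rcases eq_or_ne i (n + 1) with rfl | hne
          · exact absurd haq hi
          · rw [if_neg hne, mul_zero, sub_zero]
            split
            · rw [mul_one]
              exact fun h => hi (by simpa using sub_mem h hbq)
            · simpa using hi
      · exact ⟨a, b, hbq, Or.inr hb.symm⟩
    · exact ⟨b, a, haq, Or.inl (by rw [hb, mul_comm])⟩

theorem exists_dvd_all {A : Type u} [CommRing A] [IsDomain A] [ValuationRing A] {ι : Type*} (f : ι → A)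
    (s : Finset ι) : s.Nonempty → ∃ j ∈ s, ∀ i ∈ s, f j ∣ f i := by
  classical
  refine Finset.induction_on s (fun h => absurd h Finset.not_nonempty_empty) fun i s his ih _ => ?_
  rcases s.eq_empty_or_nonempty with rfl | hne
  · exact ⟨i, by simp, by simp⟩
  · obtain ⟨j, hj, hjs⟩ := ih hne
    rcases ValuationRing.dvd_total (f j) (f i) with h | h
    · exact ⟨j, Finset.mem_insert_of_mem hj, fun l hl => (Finset.mem_insert.1 hl).elim (fun e => e ▸ h) (hjs l)⟩
    · exact ⟨i, Finset.mem_insert_self _ _, fun l hl => (Finset.mem_insert.1 hl).elim (fun e => e ▸ dvd_rfl)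
        fun hl => h.trans (hjs l hl)⟩

theorem exists_poly_coeff_one {A L : Type u} [CommRing A] [IsDomain A] [ValuationRing A] [CommRing L] [IsDomain L]
    [Algebra A L] (hinj : Function.Injective (algebraMap A L)) {x : L} (hx : IsAlgebraic A x) :
    ∃ Q : A[X], aeval x Q = 0 ∧ ∃ j, Q.coeff j = 1 := by
  classical
  obtain ⟨P, hP0, hPx⟩ := hx
  obtain ⟨j, hj, hall⟩ := exists_dvd_all P.coeff P.support (Polynomial.nonempty_support_iff.2 hP0)
  have hc : P.coeff j ≠ 0 := Polynomial.mem_support_iff.1 hj
  obtain ⟨Q, hQ⟩ : C (P.coeff j) ∣ P := by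
    rw [Polynomial.C_dvd_iff_dvd_coeff]
    intro i
    by_cases hi : i ∈ P.support
    · exact hall i hi
    · rw [Polynomial.notMem_support_iff.1 hi]; exact dvd_zero _
  refine ⟨Q, ?_, j, ?_⟩
  · rw [hQ, map_mul, aeval_C] at hPx
    exact (mul_eq_zero.1 hPx).resolve_left fun h => hc (hinj (by rw [h, map_zero]))
  · have := congrArg (fun p => p.coeff j) hQ
    simp only [coeff_C_mul] at this
    exact (mul_eq_left₀ hc).1 this.symm

variable {A D : Type u} [CommRing A] [IsDomain A] [ValuationRing A] [CommRing D] [IsDomain D] [IsLocalRing D]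
  [IsIntegrallyClosed D] [Algebra A D] [IsLocalHom (algebraMap A D)]

theorem dichotomy (hinj : Function.Injective (algebraMap A D))
    (halg : ∀ x : FractionRing D, IsAlgebraic A x) (x : FractionRing D) :
    x ∈ (algebraMap D (FractionRing D)).range ∨ x⁻¹ ∈ (algebraMap D (FractionRing D)).range := by
  let L := FractionRing D
  have hDL := IsFractionRing.injective D L
  obtain ⟨Q, hQx, j, hj⟩ := exists_poly_coeff_one (L := L)
    (by rw [IsScalarTower.algebraMap_eq A D L]; exact hDL.comp hinj) (halg x)
  have h0 : aeval x (Q.map (algebraMap A D)) = 0 := by rw [aeval_map_algebraMap, hQx]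
  obtain ⟨c, s, hs, h⟩ := exists_frac_of_poly (C := D) (L := L)
    (fun z hz => IsIntegrallyClosed.algebraMap_eq_of_integral hz) (IsLocalRing.maximalIdeal D) x
    (Q.map (algebraMap A D)).natDegree _ le_rfl h0
    ⟨j, by rw [coeff_map, hj, map_one]; exact fun h => h isUnit_one⟩
    fun c hc => by rw [hDL (hc.trans (map_zero _).symm)]; exact zero_mem _
  have hsu : IsUnit s := by simpa using hs
  obtain ⟨u, rfl⟩ := hsu
  have hu : algebraMap D L (↑u⁻¹ : D) * algebraMap D L (u : D) = 1 := by rw [← map_mul, Units.inv_mul, map_one]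
  rcases h with h | h
  · refine Or.inl ⟨c * ↑u⁻¹, ?_⟩
    rw [map_mul, ← h, mul_assoc, mul_comm (algebraMap D L ↑u), hu, mul_one]
  · refine Or.inr ⟨c * ↑u⁻¹, ?_⟩
    refine eq_inv_of_mul_eq_one_right ?_
    rw [map_mul, mul_comm x, mul_right_comm, h, mul_comm, hu]

theorem valuationRing_of_algebraic (hinj : Function.Injective (algebraMap A D))
    (halg : ∀ x : FractionRing D, IsAlgebraic A x) : ValuationRing D :=
  ValuationRing.iff_isInteger_or_isInteger D (FractionRing D) |>.2 fun x =>
    (dichotomy hinj halg x).imp (fun h => h) fun h => h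

/-- Every element of `D` has a power equivalent to an element of `A`. -/
theorem exists_pow_associated (hinj : Function.Injective (algebraMap A D))
    (halg : ∀ x : FractionRing D, IsAlgebraic A x) {b : D} (hb : b ≠ 0) :
    ∃ (e : ℕ) (a : A), 0 < e ∧ a ≠ 0 ∧ Associated (b ^ e) (algebraMap A D a) := by
  classical
  haveI := valuationRing_of_algebraic hinj halg
  let L := FractionRing D
  obtain ⟨P, hP0, hPx⟩ := halg (algebraMap D L b)
  rw [aeval_algebraMap_apply] at hPx
  replace hPx : aeval b P = 0 := IsFractionRing.injective D L (hPx.trans (map_zero _).symm)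
  let t : ℕ → D := fun i => algebraMap A D (P.coeff i) * b ^ i
  have ht : ∀ i ∈ P.support, t i ≠ 0 := fun i hi =>
    mul_ne_zero (fun h => Polynomial.mem_support_iff.1 hi (hinj (h.trans (map_zero _).symm))) (pow_ne_zero _ hb)
  obtain ⟨j, hj, hall⟩ := exists_dvd_all t P.support (Polynomial.nonempty_support_iff.2 hP0)
  choose! d hd using hall
  have hsum : ∑ i ∈ P.support, t i = 0 := by
    rw [← hPx, aeval_def, eval₂_eq_sum, Polynomial.sum_def]
  have hdj : d j = 1 := (mul_eq_left₀ (ht j hj)).1 (hd j hj).symm
  obtain ⟨i, hi, hij, hu⟩ : ∃ i ∈ P.support, i ≠ j ∧ IsUnit (d i) := by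
    by_contra hcon
    push_neg at hcon
    have h1 : ∑ i ∈ P.support, d i = 0 := by
      have h2 : t j * ∑ i ∈ P.support, d i = 0 := by
        rw [Finset.mul_sum, ← hsum]; exact Finset.sum_congr rfl fun i hi => (hd i hi).symm
      exact (mul_eq_zero.1 h2).resolve_left (ht j hj)
    rw [← Finset.add_sum_erase _ _ hj, hdj, add_eq_zero_iff_eq_neg] at h1
    refine (IsLocalRing.maximalIdeal.isMaximal D).ne_top ((Ideal.eq_top_iff_one _).2 ?_)
    rw [h1]
    exact neg_mem (Ideal.sum_mem _ fun i hi => hcon i (Finset.mem_of_mem_erase hi) (Finset.ne_of_mem_erase hi))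
  have hassoc : Associated (t i) (t j) := ⟨hu.unit⁻¹, by
    rw [hd i hi, mul_assoc, IsUnit.mul_val_inv, mul_one]⟩
  have key : ∀ i j : ℕ, i ∈ P.support → j ∈ P.support → i < j → Associated (t i) (t j) →
      ∃ (e : ℕ) (a : A), 0 < e ∧ a ≠ 0 ∧ Associated (b ^ e) (algebraMap A D a) := by
    intro i j hi hj hlt h
    obtain ⟨u, hu⟩ := h
    have hai : algebraMap A D (P.coeff i) ≠ 0 := fun h =>
      Polynomial.mem_support_iff.1 hi (hinj (h.trans (map_zero _).symm))
    have h1 : algebraMap A D (P.coeff i) * (u : D) = algebraMap A D (P.coeff j) * b ^ (j - i) := by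
      refine mul_left_cancel₀ (pow_ne_zero i hb) ?_
      calc b ^ i * (algebraMap A D (P.coeff i) * (u : D)) = t i * u := by simp only [t]; ring
        _ = t j := hu
        _ = algebraMap A D (P.coeff j) * (b ^ i * b ^ (j - i)) := by rw [← pow_add, Nat.add_sub_of_le hlt.le]
        _ = _ := by ring
    have haj : algebraMap A D (P.coeff j) ≠ 0 := fun h => Polynomial.mem_support_iff.1 hj (hinj (h.trans (map_zero _).symm))
    rcases ValuationRing.dvd_total (P.coeff j) (P.coeff i) with ⟨a, ha⟩ | ⟨a, ha⟩
    · refine ⟨j - i, a, by omega, fun h0 => Polynomial.mem_support_iff.1 hi (by rw [ha, h0, mul_zero]), Associated.symm ⟨u, ?_⟩⟩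
      refine mul_left_cancel₀ haj ?_
      rw [← mul_assoc, ← map_mul, ← ha, h1]
    · have h2 : (u : D) = algebraMap A D a * b ^ (j - i) := by
        refine mul_left_cancel₀ hai ?_
        rw [← mul_assoc, ← map_mul, ← ha, h1]
      have hau : IsUnit a := isUnit_of_map_unit (algebraMap A D) a
        (isUnit_of_mul_isUnit_left (h2 ▸ u.isUnit))
      refine ⟨j - i, 1, by omega, one_ne_zero, ?_⟩
      rw [map_one]
      exact associated_one_iff_isUnit.2 (isUnit_of_mul_isUnit_right (h2 ▸ u.isUnit))
  rcases lt_or_gt_of_ne hij with hlt | hgt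
  · exact key i j hi hj hlt hassoc
  · exact key j i hj hi hgt hassoc.symm

theorem main (hinj : Function.Injective (algebraMap A D)) [Algebra.FormallyUnramified A D]
    [Algebra.EssFiniteType A D] :
    ValuationRing D ∧ ∀ b : D, b ≠ 0 → ∃ (a : A) (u : Dˣ), b = u * algebraMap A D a := by
  classical
  let L := FractionRing D
  let K := FractionRing A
  have hAL : Function.Injective (algebraMap A L) := by
    rw [IsScalarTower.algebraMap_eq A D L]; exact (IsFractionRing.injective D L).comp hinj
  letI : Algebra K L := (IsFractionRing.lift (A := A) (K := K) hAL).toAlgebra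
  haveI : IsScalarTower A K L := IsScalarTower.of_algebraMap_eq fun a =>
    (IsFractionRing.lift_algebraMap (A := A) (K := K) hAL a).symm
  haveI : Algebra.EssFiniteType A L :=
    haveI : Algebra.EssFiniteType D L := Algebra.EssFiniteType.of_isLocalization L (nonZeroDivisors D)
    Algebra.EssFiniteType.comp A D L
  haveI : Algebra.EssFiniteType K L := Algebra.EssFiniteType.of_comp A K L
  haveI : Algebra.FormallyUnramified D L := Algebra.FormallyUnramified.of_isLocalization (nonZeroDivisors D)
  haveI : Algebra.FormallyUnramified A L := Algebra.FormallyUnramified.comp A D L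
  haveI : Algebra.FormallyUnramified K L := Algebra.FormallyUnramified.of_restrictScalars A K L
  haveI : Module.Finite K L := Algebra.FormallyUnramified.finite_of_free K L
  haveI : Algebra.IsSeparable K L := Algebra.FormallyUnramified.isSeparable K L
  have halg : ∀ x : L, IsAlgebraic A x := fun x =>
    (IsFractionRing.isAlgebraic_iff A K L).2 (Algebra.IsAlgebraic.isAlgebraic x)
  have hV : ValuationRing D := valuationRing_of_algebraic hinj halg
  haveI := hV
  refine ⟨hV, fun b hb => ?_⟩
  obtain ⟨e, a0, he, ha0, hassoc⟩ := exists_pow_associated hinj halg hb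
  -- the integral closure of `A` in `L` localizes to `D`
  let C := integralClosure A L
  have hCD : ∀ z : C, (z : L) ∈ (algebraMap D L).range := fun z =>
    IsIntegrallyClosed.algebraMap_eq_of_integral (IsIntegral.tower_top z.2)
  choose φ hφ using hCD
  have hDL := IsFractionRing.injective D L
  let q : Ideal C :=
    { carrier := {z | φ z ∈ IsLocalRing.maximalIdeal D}
      add_mem' := fun {x y} hx hy => by
        show φ (x + y) ∈ IsLocalRing.maximalIdeal D
        rw [show φ (x + y) = φ x + φ y from hDL (by simp [hφ])]; exact add_mem hx hy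
      zero_mem' := by
        show φ 0 ∈ IsLocalRing.maximalIdeal D
        rw [show φ 0 = 0 from hDL (by simp [hφ])]; exact zero_mem _
      smul_mem' := fun c x hx => by
        show φ (c * x) ∈ IsLocalRing.maximalIdeal D
        rw [show φ (c * x) = φ c * φ x from hDL (by simp [hφ])]; exact Ideal.mul_mem_left _ _ hx }
  haveI : q.IsPrime := by
    refine ⟨fun h => ?_, fun {x y} hxy => ?_⟩
    · have h1 : φ 1 ∈ IsLocalRing.maximalIdeal D := (h.symm ▸ Submodule.mem_top : (1 : C) ∈ q)
      rw [show φ 1 = 1 from hDL (by simp [hφ])] at h1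
      exact h1 isUnit_one
    · have h1 : φ x * φ y ∈ IsLocalRing.maximalIdeal D := by
        rw [show φ x * φ y = φ (x * y) from hDL (by simp [hφ])]; exact hxy
      exact (IsLocalRing.maximalIdeal.isMaximal D).isPrime.mem_or_mem h1
  have hfrac : ∀ d : D, ∃ s : C, φ s ∉ IsLocalRing.maximalIdeal D ∧ IsIntegral A (algebraMap D L d * (s : L)) := by
    intro d
    obtain ⟨Q, hQx, j, hj⟩ := exists_poly_coeff_one (L := L) hAL (halg (algebraMap D L d))
    have h0 : aeval (algebraMap D L d) (Q.map (algebraMap A C)) = 0 := by rw [aeval_map_algebraMap, hQx]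
    obtain ⟨c, s, hs, h⟩ := exists_frac_of_poly (C := C) (L := L)
      (fun z hz => ⟨⟨z, isIntegral_trans (R := A) (A := C) z hz⟩, rfl⟩) q (algebraMap D L d)
      (Q.map (algebraMap A C)).natDegree _ le_rfl h0
      ⟨j, by
        rw [coeff_map, hj, map_one]
        intro h1
        have h2 : φ 1 ∈ IsLocalRing.maximalIdeal D := h1
        rw [show φ 1 = 1 from hDL (by simp [hφ])] at h2
        exact h2 isUnit_one⟩
      fun c hc => by
        show φ c ∈ IsLocalRing.maximalIdeal D
        rw [show φ c = 0 from hDL (by rw [hφ, map_zero]; exact hc)]; exact zero_mem _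
    rcases h with h | h
    · refine ⟨s, hs, ?_⟩
      rw [show (s : L) = algebraMap C L s from rfl, h]
      exact c.2
    · have hcq : φ c ∉ IsLocalRing.maximalIdeal D := by
        intro hc
        refine hs (?_ : φ s ∈ IsLocalRing.maximalIdeal D)
        rw [show φ s = φ c * d from hDL (by rw [map_mul, hφ, hφ]; exact h.symm)]
        exact Ideal.mul_mem_right _ _ hc
      refine ⟨c, hcq, ?_⟩
      rw [mul_comm, show (c : L) = algebraMap C L c from rfl, h]
      exact s.2
  -- the separability element
  obtain ⟨S, hS⟩ := TensorProduct.exists_finset (R := A) (Algebra.FormallyUnramified.elem A D)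
  let Ω := AlgebraicClosure L
  let σ0 : L →ₐ[K] Ω := IsScalarTower.toAlgHom K L Ω
  have hΩ : Function.Injective (algebraMap L Ω) := (algebraMap L Ω).injective
  have hid : ∀ z : L, ∑ i ∈ S, algebraMap D L i.1 * algebraMap K L (Algebra.trace K L (algebraMap D L i.2 * z)) = z := by
    intro z
    apply hΩ
    rw [map_sum]
    simp only [map_mul, ← IsScalarTower.algebraMap_apply K L Ω, trace_eq_sum_embeddings Ω, Finset.mul_sum]
    rw [Finset.sum_comm, Finset.sum_eq_single σ0]
    · have h1 : ∑ i ∈ S, i.1 * i.2 = (1 : D) := by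
        rw [← Algebra.FormallyUnramified.lmul_elem (R := A) (S := D), hS, map_sum]
        simp [Algebra.TensorProduct.lmul'_apply_tmul]
      show ∑ i ∈ S, algebraMap L Ω (algebraMap D L i.1) * (algebraMap L Ω (algebraMap D L i.2) * algebraMap L Ω z) = _
      simp only [← mul_assoc, ← map_mul, ← map_sum, ← Finset.sum_mul, h1, map_one, one_mul]
    · intro σ _ hσ
      obtain ⟨d, hd⟩ : ∃ d : D, σ (algebraMap D L d) ≠ σ0 (algebraMap D L d) := by
        by_contra hcon
        push_neg at hcon
        refine hσ (AlgHom.ext fun y => ?_)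
        obtain ⟨r, s, -, rfl⟩ := IsFractionRing.div_surjective (A := D) y
        rw [map_div₀, map_div₀, hcon, hcon]
      let f0 : D →ₐ[A] Ω := (σ0.restrictScalars A).comp (IsScalarTower.toAlgHom A D L)
      let f1 : D →ₐ[A] Ω := (σ.restrictScalars A).comp (IsScalarTower.toAlgHom A D L)
      let μ := Algebra.TensorProduct.lift f0 f1 fun _ _ => mul_comm _ _
      have h1 := congrArg μ (Algebra.FormallyUnramified.one_tmul_sub_tmul_one_mul_elem (R := A) d)
      rw [map_mul, map_sub, map_zero, hS, map_sum] at h1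
      simp only [μ, Algebra.TensorProduct.lift_tmul, map_one, one_mul, mul_one] at h1
      have h2 : ∑ i ∈ S, f0 i.1 * f1 i.2 = 0 := (mul_eq_zero.1 h1).resolve_left (sub_ne_zero.2 hd)
      calc ∑ i ∈ S, algebraMap L Ω (algebraMap D L i.1) * (σ (algebraMap D L i.2) * σ z)
          = (∑ i ∈ S, f0 i.1 * f1 i.2) * σ z := by
            rw [Finset.sum_mul]; refine Finset.sum_congr rfl fun i _ => ?_
            simp only [f0, f1]; exact (mul_assoc _ _ _).symm
        _ = 0 := by rw [h2, zero_mul]
    · exact fun h => absurd (Finset.mem_univ _) h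
  -- kill the denominators
  obtain ⟨v, hv⟩ := hassoc.symm
  choose sf hsf hsint using hfrac
  let t : C := ∏ i ∈ S, sf (i.2 ^ e * v)
  have htq : IsUnit (φ t) := by
    by_contra h
    obtain ⟨i, -, hi⟩ := (Ideal.IsPrime.prod_mem_iff (p := q)).1 (show t ∈ q from h)
    exact hsf _ hi
  let z : L := algebraMap D L (b * φ t)
  have hξ : ∀ i ∈ S, ∃ c : L, IsIntegral A c ∧ (algebraMap D L i.2 * z) ^ e = algebraMap A L a0 * c := by
    intro i hi
    let d := i.2 ^ e * (v : D)
    obtain ⟨t', ht'⟩ : sf d ∣ t := Finset.dvd_prod_of_mem _ hi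
    refine ⟨algebraMap D L d * (t : L) ^ e, ?_, ?_⟩
    · obtain ⟨e', rfl⟩ : ∃ e', e = e' + 1 := ⟨e - 1, by omega⟩
      rw [pow_succ' (t : L), ← mul_assoc]
      refine IsIntegral.mul ?_ (IsIntegral.pow t.2 _)
      rw [ht', show ((sf d * t' : C) : L) = (sf d : L) * (t' : L) from rfl, ← mul_assoc]
      exact IsIntegral.mul (hsint d) t'.2
    · simp only [z, d]
      rw [IsScalarTower.algebraMap_apply A D L, ← map_mul, ← map_pow,
        show (t : L) = algebraMap D L (φ t) from (hφ t).symm, ← map_pow, ← map_mul, ← map_mul]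
      refine congrArg _ ?_
      rw [mul_pow, mul_pow, ← hv]
      ring
  let tr : D × D → K := fun i => Algebra.trace K L (algebraMap D L i.2 * z)
  have htr : ∀ i ∈ S, ∃ a g : A, tr i = algebraMap A K a ∧ a ^ e = a0 * g := by
    intro i hi
    obtain ⟨c, hc, hce⟩ := hξ i hi
    obtain ⟨ρ, hρ⟩ := IsAlgClosed.exists_pow_nat_eq (algebraMap A Ω a0) he
    have hAΩ : Function.Injective (algebraMap A Ω) := by
      rw [IsScalarTower.algebraMap_eq A L Ω]; exact hΩ.comp hAL
    have hρ0 : ρ ≠ 0 := fun h => ha0 (hAΩ (by rw [map_zero, ← hρ, h, zero_pow he.ne']))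
    have hσint : ∀ σ : L →ₐ[K] Ω, IsIntegral A (σ (algebraMap D L i.2 * z) / ρ) := by
      intro σ
      refine IsIntegral.of_pow he ?_
      rw [div_pow, ← map_pow, hρ, hce, map_mul, ← AlgHom.restrictScalars_apply A σ, AlgHom.commutes,
        mul_div_cancel_left₀ _ (fun h => ha0 (hAΩ (h.trans (map_zero _).symm)))]
      exact hc.map (σ.restrictScalars A)
    have hsumint : IsIntegral A ((algebraMap K Ω (tr i) / ρ) ^ e) := by
      refine IsIntegral.pow ?_ _
      rw [trace_eq_sum_embeddings Ω, Finset.sum_div]
      exact IsIntegral.sum _ fun σ _ => hσint σ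
    have hKint : IsIntegral A ((tr i) ^ e / algebraMap A K a0) := by
      refine (isIntegral_algHom_iff (IsScalarTower.toAlgHom A K Ω) (algebraMap K Ω).injective).1 ?_
      show IsIntegral A (algebraMap K Ω _)
      rw [map_div₀, map_pow, ← IsScalarTower.algebraMap_apply, ← hρ, ← div_pow]
      exact hsumint
    obtain ⟨g, hg⟩ := IsIntegrallyClosed.algebraMap_eq_of_integral hKint
    rw [eq_div_iff (fun h => ha0 (IsFractionRing.injective A K (h.trans (map_zero _).symm))), ← map_mul] at hg
    have hint : IsIntegral A (tr i) := IsIntegral.of_pow he (by rw [← hg]; exact isIntegral_algebraMap)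
    obtain ⟨a, ha⟩ := IsIntegrallyClosed.algebraMap_eq_of_integral hint
    refine ⟨a, g, ha.symm, IsFractionRing.injective A K ?_⟩
    rw [map_pow, ha, ← hg, mul_comm a0 g]
  choose! a g hag hg using htr
  have hzD : b * φ t = ∑ i ∈ S, i.1 * algebraMap A D (a i) := by
    apply hDL
    rw [map_sum]
    refine (hid z).symm.trans (Finset.sum_congr rfl fun i hi => ?_)
    rw [map_mul (algebraMap D L) i.1 (algebraMap A D (a i)), ← IsScalarTower.algebraMap_apply A D L,
      IsScalarTower.algebraMap_apply A K L]
    exact congrArg _ (congrArg _ (hag i hi))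
  have hb' : b * φ t ≠ 0 := mul_ne_zero hb htq.ne_zero
  have hne : S.Nonempty := by
    by_contra h
    rw [Finset.not_nonempty_iff_eq_empty.1 h, Finset.sum_empty] at hzD
    exact hb' hzD
  obtain ⟨j, hj, hall⟩ := exists_dvd_all a S hne
  choose! w hw using hall
  let d := ∑ i ∈ S, i.1 * algebraMap A D (w i)
  have hfact : b * φ t = algebraMap A D (a j) * d := by
    rw [hzD, Finset.mul_sum]
    refine Finset.sum_congr rfl fun i hi => ?_
    rw [hw i hi, map_mul]; ring
  have hd : IsUnit d := by
    have h1 : algebraMap A D a0 * (v : D) * φ t ^ e = algebraMap A D a0 * (algebraMap A D (g j) * d ^ e) := by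
      rw [hv, ← mul_pow, hfact, mul_pow, ← map_pow, hg j hj, map_mul]; ring
    rw [mul_assoc] at h1
    have h2 := mul_left_cancel₀ (fun h => ha0 (hinj (h.trans (map_zero _).symm))) h1
    exact (isUnit_pow_iff he.ne').1 (isUnit_of_mul_isUnit_right (h2 ▸ (v.isUnit.mul (htq.pow e))))
  refine ⟨a j, hd.unit * htq.unit⁻¹, ?_⟩
  rw [Units.val_mul, IsUnit.unit_spec]
  calc b = b * φ t * ↑htq.unit⁻¹ := by rw [mul_assoc, IsUnit.mul_val_inv, mul_one]
    _ = _ := by rw [hfact]; ring

end Groth.Agent.ValEtaleLib
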